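import Mathlib

/-!
A 2-cocycle in characteristic two that vanishes on a subgroup of odd index in the first variable
is a coboundary (averaging over cosets).
-/

set_option autoImplicit false

namespace CfsgLib.KnownB.M23Ext

theorem exists_cobound {G V : Type*} [Group G] [Finite G] [AddCommGroup V] [DistribMulAction G V]
    (h2 : ∀ v : V, v + v = 0) (Q : Subgroup G) (hodd : Odd Q.index) (D : G → G → V)
    (hcoc : ∀ x y z, D x y + D (x * y) z = x • D y z + D x (y * z))
    (hQ : ∀ q ∈ Q, ∀ z, D q z = 0) :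
    ∃ a : G → V, ∀ y z, D y z = a y + y • a z + a (y * z) := by
  classical
  let : Fintype (G ⧸ Q) := Fintype.ofFinite _
  let φ : G → G → V := fun r z => r • D r⁻¹ z
  have hinv : ∀ r q z, q ∈ Q → φ (r * q) z = φ r z := by
    intro r q z hq
    have h := hcoc q⁻¹ r⁻¹ z
    rw [hQ _ (Q.inv_mem hq), hQ _ (Q.inv_mem hq), zero_add, add_zero, ← mul_inv_rev] at h
    show (r * q) • D (r * q)⁻¹ z = r • D r⁻¹ z
    rw [h, smul_smul, mul_assoc, mul_inv_cancel, mul_one]
  let ψ : G ⧸ Q → G → V := fun i z => φ i.out z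
  have hψ : ∀ (r : G) z, ψ (r : G ⧸ Q) z = φ r z := by
    intro r z
    obtain ⟨q, hq⟩ := QuotientGroup.mk_out_eq_mul Q r
    show φ (r : G ⧸ Q).out z = φ r z
    rw [hq, hinv _ _ _ q.2]
  refine ⟨fun z => ∑ i, ψ i z, fun y z => ?_⟩
  have key : ∀ i : G ⧸ Q, D y z = ψ i y + y • ψ (y⁻¹ • i) z + ψ i (y * z) := by
    intro i
    obtain ⟨r, rfl⟩ := QuotientGroup.mk_surjective i
    rw [MulAction.Quotient.smul_coe, smul_eq_mul, hψ, hψ, hψ]
    show D y z = r • D r⁻¹ y + y • ((y⁻¹ * r) • D (y⁻¹ * r)⁻¹ z) + r • D r⁻¹ (y * z)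
    rw [smul_smul, mul_inv_cancel_left, mul_inv_rev, inv_inv, ← smul_add, hcoc r⁻¹ y z, smul_add,
      smul_smul, mul_inv_cancel, one_smul, add_assoc, h2, add_zero]
  have hs : (Finset.univ : Finset (G ⧸ Q)).card • D y z =
      (∑ i, ψ i y) + y • (∑ i, ψ i z) + ∑ i, ψ i (y * z) := by
    rw [← Finset.sum_const, Finset.sum_congr rfl fun i _ => key i, Finset.sum_add_distrib,
      Finset.sum_add_distrib, Finset.smul_sum]
    rw [← Equiv.sum_comp (MulAction.toPerm y⁻¹ : Equiv.Perm (G ⧸ Q)) fun i => y • ψ i z]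
    rfl
  have hc : (Finset.univ : Finset (G ⧸ Q)).card = Q.index := by
    rw [Finset.card_univ, ← Nat.card_eq_fintype_card, Subgroup.index_eq_card]
  obtain ⟨m, hm⟩ := hodd
  rw [hc, hm, succ_nsmul, mul_nsmul', two_nsmul, h2, zero_add] at hs
  exact hs

end CfsgLib.KnownB.M23Ext
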