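import Mathlib

/-!
Symbolic collection in an extension of a group by `(ZMod 2)^11`: linear forms in unknowns packed
in natural numbers, eleven rows of width `wd`.
-/

set_option autoImplicit false

namespace CfsgLib.KnownB.M23Ext

abbrev V := Fin 11 → ZMod 2

/-- width of a row -/
abbrev wd : ℕ := 384

/-- bit as a scalar -/
def bz (b : Bool) : ZMod 2 := if b then 1 else 0

theorem bz_xor (a b : Bool) : bz (a ^^ b) = bz a + bz b := by cases a <;> cases b <;> decide

/-- row `j` of a form -/
def row (X j : ℕ) : ℕ := (X >>> (wd * j)) % 2 ^ wd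

/-- value of one row -/
def dot (u : ℕ → ZMod 2) (R : ℕ) : ZMod 2 := ∑ t ∈ Finset.range wd, bz (R.testBit t) * u t

/-- value of a form -/
def val (u : ℕ → ZMod 2) (X : ℕ) : V := fun j => dot u (row X j)

theorem dot_zero (u : ℕ → ZMod 2) : dot u 0 = 0 := by simp [dot, bz]

theorem dot_xor (u : ℕ → ZMod 2) (A B : ℕ) : dot u (A ^^^ B) = dot u A + dot u B := by
  simp only [dot, Nat.testBit_xor, bz_xor, add_mul, Finset.sum_add_distrib]

theorem row_xor (A B j : ℕ) : row (A ^^^ B) j = row A j ^^^ row B j := by
  simp only [row, Nat.shiftRight_xor_distrib, Nat.xor_mod_two_pow]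

theorem row_zero (j : ℕ) : row 0 j = 0 := by simp [row]

theorem val_zero (u : ℕ → ZMod 2) : val u 0 = 0 := by
  funext j; rw [val, row_zero, dot_zero]; rfl

theorem val_xor (u : ℕ → ZMod 2) (A B : ℕ) : val u (A ^^^ B) = val u A + val u B := by
  funext j; simp only [val, row_xor, dot_xor, Pi.add_apply]

/-- the row `R` placed at position `j` -/
def place (R j : ℕ) : ℕ := (R % 2 ^ wd) <<< (wd * j)

theorem row_place (R j i : ℕ) : row (place R j) i = if i = j then R % 2 ^ wd else 0 := by
  apply Nat.eq_of_testBit_eq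
  intro t
  rw [row, place, Nat.testBit_mod_two_pow, Nat.testBit_shiftRight, Nat.testBit_shiftLeft, Nat.testBit_mod_two_pow]
  by_cases ht : t < wd
  · rcases lt_trichotomy i j with h | h | h
    · have : ¬ wd * j ≤ wd * i + t := by
        have := Nat.mul_le_mul_left wd (Nat.succ_le_of_lt h)
        rw [Nat.mul_succ] at this; omega
      simp [this, h.ne]
    · subst h; simp [ht]
    · have : wd * (j + 1) ≤ wd * i := Nat.mul_le_mul_left wd h
      rw [Nat.mul_succ] at this
      have h' : ¬ wd * i + t - wd * j < wd := by omega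
      simp [h', h.ne']
  · by_cases h : i = j <;> simp [h, ht]

theorem dot_mod (u : ℕ → ZMod 2) (R : ℕ) : dot u (R % 2 ^ wd) = dot u R :=
  Finset.sum_congr rfl fun t ht => by
    rw [Nat.testBit_mod_two_pow, decide_eq_true (Finset.mem_range.1 ht), Bool.true_and]

theorem val_place (u : ℕ → ZMod 2) (R : ℕ) (j : Fin 11) :
    val u (place R j) = Pi.single j (dot u R) := by
  funext i
  rw [val, row_place]
  by_cases h : i = j
  · subst h; simp [dot_mod]
  · have : (i : ℕ) ≠ (j : ℕ) := fun e => h (Fin.ext e)
    simp [h, this, dot_zero]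

abbrev Mat := List (Fin 11 × Fin 11)

/-- matrix on vectors -/
def appV : Mat → V → V
  | [], _ => 0
  | p :: l, v => Pi.single p.2 (v p.1) + appV l v

/-- matrix on forms -/
def appM : Mat → ℕ → ℕ
  | [], _ => 0
  | p :: l, X => place (row X p.1) p.2 ^^^ appM l X

theorem val_appM (u : ℕ → ZMod 2) : ∀ (M : Mat) (X : ℕ), val u (appM M X) = appV M (val u X)
  | [], X => val_zero u
  | p :: l, X => by rw [appM, val_xor, val_place, val_appM u l X, appV]; rfl

/-- form of the unknown vector number `s` -/
def slotAux (s : ℕ) : List (Fin 11) → ℕ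
  | [] => 0
  | r :: l => place (1 <<< (11 * s + r)) r ^^^ slotAux s l

def slotForm (s : ℕ) : ℕ := slotAux s (List.finRange 11)

theorem dot_one_shift (u : ℕ → ZMod 2) {t : ℕ} (ht : t < wd) : dot u (1 <<< t) = u t := by
  rw [dot, Finset.sum_eq_single t]
  · simp [bz, Nat.one_shiftLeft, Nat.testBit_two_pow]
  · intro i _ hi
    simp [bz, Nat.one_shiftLeft, Nat.testBit_two_pow, Ne.symm hi]
  · intro h; exact absurd (Finset.mem_range.2 ht) h

theorem val_slotForm (u : ℕ → ZMod 2) {s : ℕ} (hs : 11 * s + 11 ≤ wd) :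
    val u (slotForm s) = fun r : Fin 11 => u (11 * s + r) := by
  have h : ∀ l : List (Fin 11), val u (slotAux s l) =
      (l.map fun r => (Pi.single r (u (11 * s + r)) : V)).sum := by
    intro l
    induction l with
    | nil => simp [slotAux, val_zero]
    | cons r l ih =>
      rw [slotAux, val_xor, val_place, dot_one_shift u (by omega), ih, List.map_cons, List.sum_cons]
  rw [slotForm, h, ← List.ofFn_eq_map, List.sum_ofFn]
  exact Finset.univ_sum_single _

/-- the slot of the relation `(a, b)` -/
def pslot (a b : Fin 7) : ℕ := (a : ℕ) * ((a : ℕ) + 1) / 2 + b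

variable (M : Fin 7 → Mat) (R : Fin 7 → Fin 7 → List (Fin 7))

/-- one rewriting step -/
def stepW : List (Fin 7) → ℕ × List (Fin 7)
  | [] => (0, [])
  | [a] => (0, [a])
  | a :: b :: r => if b ≤ a then (slotForm (pslot a b), R a b ++ r)
      else (appM (M a) (stepW (b :: r)).1, a :: (stepW (b :: r)).2)

/-- repeated rewriting -/
def collect : ℕ → List (Fin 7) → ℕ × List (Fin 7)
  | 0, w => (0, w)
  | n + 1, w => if (stepW M R w).2 = w then (0, w) else
      ((stepW M R w).1 ^^^ (collect n (stepW M R w).2).1, (collect n (stepW M R w).2).2)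

/-- form pushed left through a word -/
def appW (w : List (Fin 7)) (X : ℕ) : ℕ := w.foldr (fun a Y => appM (M a) Y) X

/-- product of forms and words with all forms moved left -/
def lift : List (ℕ × List (Fin 7)) → ℕ
  | [] => 0
  | p :: l => p.1 ^^^ appW M p.2 (lift l)

variable {F : Type*} [Group F] (x : Fin 7 → F) (ι : V → F)

/-- product along a word -/
def P (w : List (Fin 7)) : F := (w.map x).prod

theorem P_cons (a : Fin 7) (w : List (Fin 7)) : P x (a :: w) = x a * P x w := by simp [P]

theorem P_append (v w : List (Fin 7)) : P x (v ++ w) = P x v * P x w := by simp [P]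

theorem P_nil : P x [] = 1 := rfl

variable (u : ℕ → ZMod 2)

structure Rules : Prop where
  ι_add : ∀ v w, ι (v + w) = ι v * ι w
  conj : ∀ a v, x a * ι v = ι (appV (M a) v) * x a
  rel : ∀ a b, b ≤ a → x a * x b = ι (val u (slotForm (pslot a b))) * P x (R a b)

variable {M R x ι u}

theorem Rules.ι_zero (h : Rules M R x ι u) : ι 0 = 1 := by
  have := h.ι_add 0 0
  rw [add_zero] at this
  exact left_eq_mul.1 this

theorem Rules.stepW (h : Rules M R x ι u) :
    ∀ w, P x w = ι (val u (stepW M R w).1) * P x (stepW M R w).2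
  | [] => by simp [M23Ext.stepW, val_zero, h.ι_zero]
  | [a] => by simp [M23Ext.stepW, val_zero, h.ι_zero]
  | a :: b :: r => by
    rw [M23Ext.stepW]
    split_ifs with hab
    · rw [P_append, ← mul_assoc, ← h.rel a b hab, P_cons, P_cons, mul_assoc]
    · rw [P_cons, h.stepW (b :: r), P_cons, val_appM, ← mul_assoc, ← mul_assoc, h.conj]

theorem Rules.collect (h : Rules M R x ι u) :
    ∀ n w, P x w = ι (val u (collect M R n w).1) * P x (collect M R n w).2
  | 0, w => by simp [M23Ext.collect, val_zero, h.ι_zero]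
  | n + 1, w => by
    rw [M23Ext.collect]
    split_ifs with hw
    · simp [val_zero, h.ι_zero]
    · rw [val_xor, h.ι_add, mul_assoc, ← h.collect n, ← h.stepW]

theorem Rules.appW (h : Rules M R x ι u) :
    ∀ w X, P x w * ι (val u X) = ι (val u (appW M w X)) * P x w
  | [], X => by simp [M23Ext.appW, P_nil]
  | a :: w, X => by
    have e : M23Ext.appW M (a :: w) X = appM (M a) (M23Ext.appW M w X) := rfl
    rw [e, P_cons, mul_assoc, h.appW w, ← mul_assoc, h.conj, val_appM, mul_assoc]

theorem Rules.lift (h : Rules M R x ι u) :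
    ∀ l : List (ℕ × List (Fin 7)), (l.map fun p => ι (val u p.1) * P x p.2).prod =
      ι (val u (lift M l)) * P x (l.flatMap Prod.snd)
  | [] => by simp [M23Ext.lift, val_zero, h.ι_zero, P_nil]
  | p :: l => by
    rw [List.map_cons, List.prod_cons, h.lift l, M23Ext.lift, val_xor, h.ι_add, List.flatMap_cons,
      P_append, mul_assoc, ← mul_assoc (P x p.2), h.appW]
    simp only [mul_assoc]

end CfsgLib.KnownB.M23Ext
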