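import Cfsg.Agent.Lib.KnownB.M23Ext.Eval
import Cfsg.Agent.Lib.KnownB.M23Ext.Cobound
import Cfsg.Agent.Lib.KnownB.M23Cocode
import Cfsg.Agent.Lib.Spor.Transit
import Cfsg.Agent.Lib.KnownA.MathieuOut.Main

/-!
Extensions of `M₂₃` by eleven-dimensional modules: certificates on a Sylow 2-subgroup given by a
power-conjugate presentation, and the resulting splitting and uniqueness theorems.
-/

set_option autoImplicit false

namespace CfsgLib.KnownB.M23Ext

open Cfsg CfsgLib.Spor

abbrev G23 := ↥Spor.M23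

/-- packed element of `M₂₃` -/
def okP (a : ℕ) : Bool := isM24P a && Nat.beq (getP a 23) 23

theorem exists_el {a : ℕ} (h : okP a = true) :
    ∃ σ : G23, Rep (σ : Equiv.Perm GolayPt) a := by
  simp only [okP, Bool.and_eq_true, Nat.beq_eq] at h
  obtain ⟨σ, hσ, hr⟩ := exists_rep_M24 h.1
  refine ⟨⟨σ, hσ, MulAction.mem_stabilizer_iff.2 ?_⟩, hr⟩
  exact (hr.fix_iff (by norm_num : 23 < 24)).2 h.2

/-- the element of a packed permutation -/
noncomputable def el (a : ℕ) : G23 := if h : okP a = true then (exists_el h).choose else 1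

theorem rep_el {a : ℕ} (h : okP a = true) : Rep (el a : Equiv.Perm GolayPt) a := by
  rw [el, dif_pos h]; exact (exists_el h).choose_spec

/-- An action on the vectors. -/
structure Act where
  A : G23 → V → V
  add : ∀ g v w, A g (v + w) = A g v + A g w
  mul : ∀ g h v, A (g * h) v = A g (A h v)
  one : ∀ v, A 1 v = v

/-- An extension with given action. -/
structure Ext (𝒜 : Act) (F : Type*) [Group F] where
  π : F →* G23
  surj : Function.Surjective π
  ι : V → F
  ι_add : ∀ v w, ι (v + w) = ι v * ι w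
  inj : Function.Injective ι
  ker : ∀ f, π f = 1 ↔ ∃ v, ι v = f
  conj : ∀ f v, f * ι v = ι (𝒜.A (π f) v) * f

namespace Ext

variable {𝒜 : Act} {F : Type*} [Group F] (e : Ext 𝒜 F)

theorem ι_zero : e.ι 0 = 1 := by
  have := e.ι_add 0 0
  rw [add_zero] at this
  exact left_eq_mul.1 this

theorem π_ι (v : V) : e.π (e.ι v) = 1 := (e.ker _).2 ⟨v, rfl⟩

theorem exists_vec {f f' : F} (h : e.π f = e.π f') : ∃ v, f = e.ι v * f' := by
  obtain ⟨v, hv⟩ := (e.ker (f * f'⁻¹)).1 (by rw [map_mul, map_inv, h, mul_inv_cancel])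
  exact ⟨v, by rw [hv, inv_mul_cancel_right]⟩

noncomputable def vec (f f' : F) : V :=
  letI := Classical.propDecidable (e.π f = e.π f')
  if h : e.π f = e.π f' then (e.exists_vec h).choose else 0

theorem vec_spec {f f' : F} (h : e.π f = e.π f') : f = e.ι (e.vec f f') * f' := by
  rw [vec, dif_pos h]; exact (e.exists_vec h).choose_spec

theorem cancel {v w : V} {f : F} (h : e.ι v * f = e.ι w * f) : v = w :=
  e.inj (mul_right_cancel h)

end Ext

/-- data of an element used for conjugation -/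
structure GData where
  g : ℕ
  Mg : Mat
  base : ℕ
  bs : List (List (Fin 7) × List (Fin 7))

/-- certificate -/
structure Cert where
  σ : Fin 7 → ℕ
  rel : Fin 7 → Fin 7 → List (Fin 7)
  M : Fin 7 → Mat
  gs : List GData
  desc : List (ℕ × ℕ × ℕ)
  eqA : List (Fin 7 × Fin 7 × Fin 7)
  eqB : List (ℕ × List ℕ × List ℕ)
  rows : List ℕ
  lam : Fin 7 → ℕ
  bm : ℕ
  v0 : ℕ
  combs : Fin 7 → Fin 7 → Fin 11 → ℕ

namespace Cert

variable (c : Cert)

/-- number of rewriting steps allowed -/
abbrev fuel : ℕ := 64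

def pw (w : List (Fin 7)) : ℕ := w.foldr (fun a Y => compP (c.σ a) Y) (packL (List.range 24))

def coll (w : List (Fin 7)) : ℕ × List (Fin 7) := collect c.M c.rel fuel w

/-- associativity equation -/
def formA (t : Fin 7 × Fin 7 × Fin 7) : ℕ :=
  (c.coll [t.1, t.2.1, t.2.2]).1 ^^^ appM (c.M t.1) (slotForm (pslot t.2.1 t.2.2)) ^^^
    (c.coll (t.1 :: c.rel t.2.1 t.2.2)).1

def okA (t : Fin 7 × Fin 7 × Fin 7) : Bool :=
  decide (t.2.2 ≤ t.2.1) &&
    (c.coll [t.1, t.2.1, t.2.2]).2 == (c.coll (t.1 :: c.rel t.2.1 t.2.2)).2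

/-- conjugation data -/
def gd (i : ℕ) : GData := c.gs.getD i ⟨0, [], 0, []⟩

def src (i : ℕ) (W : List ℕ) : List (Fin 7) := W.flatMap fun m => ((c.gd i).bs.getD m ([], [])).1

def img (i : ℕ) (W : List ℕ) : List (Fin 7) := W.flatMap fun m => ((c.gd i).bs.getD m ([], [])).2

def items (i : ℕ) (W : List ℕ) : List (ℕ × List (Fin 7)) :=
  W.map fun m => (slotForm ((c.gd i).base + m), ((c.gd i).bs.getD m ([], [])).2)

def formB (t : ℕ × List ℕ × List ℕ) : ℕ :=
  lift c.M (c.items t.1 t.2.1) ^^^ (c.coll (c.img t.1 t.2.1)).1 ^^^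
    appM (c.gd t.1).Mg ((c.coll (c.src t.1 t.2.1)).1 ^^^ (c.coll (c.src t.1 t.2.2)).1) ^^^
    (lift c.M (c.items t.1 t.2.2) ^^^ (c.coll (c.img t.1 t.2.2)).1)

def okB (t : ℕ × List ℕ × List ℕ) : Bool :=
  Nat.blt t.1 c.gs.length && (t.2.1 ++ t.2.2).all (fun m => Nat.blt m (c.gd t.1).bs.length) &&
  (c.coll (c.src t.1 t.2.1)).2 == (c.coll (c.src t.1 t.2.2)).2 &&
  (c.coll (c.img t.1 t.2.1)).2 == (c.coll (c.img t.1 t.2.2)).2

def rowsOf (X : ℕ) : List ℕ := (List.range 11).map (row X)

def allRows : List ℕ := (c.eqA.map c.formA ++ c.eqB.map c.formB).flatMap rowsOf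

def combine : List ℕ → ℕ → ℕ
  | [], _ => 0
  | r :: l, m => (if m.testBit 0 then r else 0) ^^^ combine l (m / 2)

def target (a b : Fin 7) : ℕ :=
  c.lam a ^^^ appM (c.M a) (c.lam b) ^^^ slotForm (pslot a b) ^^^
    lift c.M ((c.rel a b).map fun t => (c.lam t, [t]))

def okComb (a b : Fin 7) : Bool :=
  (List.finRange 11).all fun j => Nat.beq
    (row (c.target a b) j ^^^ (if c.v0.testBit (11 * pslot a b + j) then c.bm else 0))
    (combine c.rows (c.combs a b j))

/-- normal words -/
def nfw (k : ℕ) : List (Fin 7) := (List.finRange 7).filter fun i => k.testBit i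

def idxW (w : List (Fin 7)) : ℕ := (w.map fun i => 2 ^ (i : ℕ)).sum

def next (k : ℕ) (j : Fin 7) : ℕ := idxW (c.coll (nfw k ++ [j])).2

def okNext (k : ℕ) : Bool :=
  (List.finRange 7).all fun j =>
    Nat.blt (c.next k j) 128 && (c.coll (nfw k ++ [j])).2 == nfw (c.next k j)

def inv (a : ℕ) : ℕ := packL ((List.range 24).map fun j => ((List.range 24).find? fun i => getP a i == j).getD 0)

structure Valid (𝒜 : Act) : Prop where
  okσ : ∀ a, okP (c.σ a) = true
  relσ : ∀ a b, b ≤ a → compP (c.σ a) (c.σ b) = c.pw (c.rel a b)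
  actσ : ∀ a v, 𝒜.A (el (c.σ a)) v = appV (c.M a) v
  okg : ∀ i < c.gs.length, okP (c.gd i).g = true
  actg : ∀ i < c.gs.length, ∀ v, 𝒜.A (el (c.gd i).g) v = appV (c.gd i).Mg v
  gmap : ∀ i < c.gs.length, ∀ m < (c.gd i).bs.length,
    compP (c.gd i).g (c.pw ((c.gd i).bs.getD m ([], [])).1) =
      compP (c.pw ((c.gd i).bs.getD m ([], [])).2) (c.gd i).g
  descRel : ∀ a b : Fin 7, b ≤ a → c.desc.getD (pslot a b) (2, 0, 0) = (0, (a : ℕ), (b : ℕ))
  descG : ∀ i < c.gs.length, ∀ m < (c.gd i).bs.length,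
    11 * ((c.gd i).base + m) + 11 ≤ wd ∧ c.desc.getD ((c.gd i).base + m) (2, 0, 0) = (1, i, m)
  eqA_ok : ∀ t ∈ c.eqA, c.okA t = true
  eqB_ok : ∀ t ∈ c.eqB, c.okB t = true
  rows_eq : c.allRows = c.rows
  comb_ok : ∀ a b, b ≤ a → c.okComb a b = true
  next_ok : ∀ k < 128, c.okNext k = true
  nodup : ((List.range 128).map fun k => (List.range 24).map fun i => getP (c.pw (nfw k)) i).Nodup

theorem pslot_lt (a b : Fin 7) (h : b ≤ a) : pslot a b < 28 := by
  revert a b; decide

/-- valuation of the corrected relations -/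
def uc (β : ZMod 2) (t : ℕ) : ZMod 2 := β * bz (c.v0.testBit t)

variable {c} {𝒜 : Act} (hc : c.Valid 𝒜) {F : Type*} [Group F] (e : Ext 𝒜 F)

theorem mem_dot_zero {u : ℕ → ZMod 2} : ∀ (l : List ℕ), (∀ r ∈ l, dot u r = 0) →
    ∀ m, dot u (combine l m) = 0
  | [], _, _ => dot_zero u
  | r :: l, h, m => by
    rw [combine, dot_xor, mem_dot_zero l (fun s hs => h s (List.mem_cons_of_mem _ hs))]
    split_ifs
    · rw [h r List.mem_cons_self, add_zero]
    · rw [dot_zero, add_zero]

include hc in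
theorem rep_pw (w : List (Fin 7)) :
    Rep ((P (fun a => el (c.σ a)) w : G23) : Equiv.Perm GolayPt) (c.pw w) := by
  induction w with
  | nil =>
    rw [P_nil, OneMemClass.coe_one, pw, List.foldr_nil]
    exact rep_one
  | cons a w ih =>
    rw [P_cons, Subgroup.coe_mul, pw, List.foldr_cons]
    exact (rep_el (hc.okσ a)).mul ih

include hc in
theorem π_P (x : Fin 7 → F) (hx : ∀ a, e.π (x a) = el (c.σ a)) (w : List (Fin 7)) :
    e.π (P x w) = P (fun a => el (c.σ a)) w := by
  rw [P, map_list_prod, List.map_map]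
  exact congrArg List.prod (List.map_congr_left fun a _ => hx a)

/-- lifts with standard relations -/
structure Lifts (c : Cert) (e : Ext 𝒜 F) (β : ZMod 2) where
  y : Fin 7 → F
  π_y : ∀ a, e.π (y a) = el (c.σ a)
  rules : Rules c.M c.rel y e.ι (c.uc β)

include hc in
theorem exists_lifts : ∃ β, Nonempty (Lifts c e β) := by
  let x : Fin 7 → F := fun a => (e.surj (el (c.σ a))).choose
  have hx : ∀ a, e.π (x a) = el (c.σ a) := fun a => (e.surj (el (c.σ a))).choose_spec
  let gh : ℕ → F := fun i => (e.surj (el (c.gd i).g)).choose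
  have hg : ∀ i, e.π (gh i) = el (c.gd i).g := fun i => (e.surj (el (c.gd i).g)).choose_spec
  let u : ℕ → ZMod 2 := fun t =>
    let d := c.desc.getD (t / 11) (2, 0, 0)
    (if d.1 = 0 then
      e.vec (x (Fin.ofNat 7 d.2.1) * x (Fin.ofNat 7 d.2.2)) (P x (c.rel (Fin.ofNat 7 d.2.1) (Fin.ofNat 7 d.2.2)))
    else
      e.vec (gh d.2.1 * P x ((c.gd d.2.1).bs.getD d.2.2 ([], [])).1 * (gh d.2.1)⁻¹)
        (P x ((c.gd d.2.1).bs.getD d.2.2 ([], [])).2)) ⟨t % 11, Nat.mod_lt _ (by norm_num)⟩
  have hdiv : ∀ (s : ℕ) (r : Fin 11), (11 * s + r) / 11 = s ∧ (11 * s + r) % 11 = r := fun s r => by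
    omega
  have hofNat : ∀ a : Fin 7, Fin.ofNat 7 (a : ℕ) = a := fun a => Fin.ext (Nat.mod_eq_of_lt a.2)
  have hrel : ∀ a b, b ≤ a → e.π (x a * x b) = e.π (P x (c.rel a b)) := by
    intro a b hab
    rw [map_mul, hx, hx, π_P hc e x hx]
    refine Subtype.ext (((rep_el (hc.okσ a)).mul (rep_el (hc.okσ b))).inj ?_)
    rw [hc.relσ a b hab]
    exact rep_pw hc _
  have R₁ : Rules c.M c.rel x e.ι u := by
    refine ⟨e.ι_add, fun a v => by rw [e.conj, hx, hc.actσ], fun a b hab => ?_⟩
    have hs : val u (slotForm (pslot a b)) = e.vec (x a * x b) (P x (c.rel a b)) := by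
      rw [val_slotForm u (by have := pslot_lt a b hab; simp only [wd]; omega)]
      funext r
      simp only [u, (hdiv _ r).1, (hdiv _ r).2, hc.descRel a b hab, if_true, hofNat]
    rw [hs]
    exact e.vec_spec (hrel a b hab)
  have hB : ∀ i < c.gs.length, ∀ W : List ℕ, (∀ m ∈ W, m < (c.gd i).bs.length) →
      gh i * P x (c.src i W) * (gh i)⁻¹ =
        e.ι (val u (lift c.M (c.items i W) ^^^ (c.coll (c.img i W)).1)) * P x (c.coll (c.img i W)).2 := by
    intro i hi W hW
    have h1 : gh i * P x (c.src i W) * (gh i)⁻¹ =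
        ((c.items i W).map fun p => e.ι (val u p.1) * P x p.2).prod := by
      induction W with
      | nil => simp [src, items, P_nil]
      | cons m W ih =>
        have hm := hW m List.mem_cons_self
        obtain ⟨hwd, hd⟩ := hc.descG i hi m hm
        have hπ : e.π (gh i * P x ((c.gd i).bs.getD m ([], [])).1 * (gh i)⁻¹) =
            e.π (P x ((c.gd i).bs.getD m ([], [])).2) := by
          rw [map_mul, map_mul, map_inv, hg, π_P hc e x hx, π_P hc e x hx, mul_inv_eq_iff_eq_mul]
          refine Subtype.ext (((rep_el (hc.okg i hi)).mul (rep_pw hc _)).inj ?_)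
          rw [hc.gmap i hi m hm]
          exact (rep_pw hc _).mul (rep_el (hc.okg i hi))
        have hs : val u (slotForm ((c.gd i).base + m)) =
            e.vec (gh i * P x ((c.gd i).bs.getD m ([], [])).1 * (gh i)⁻¹)
              (P x ((c.gd i).bs.getD m ([], [])).2) := by
          rw [val_slotForm u hwd]
          funext r
          simp only [u, (hdiv _ r).1, (hdiv _ r).2, hd, one_ne_zero, if_false]
        show gh i * P x (((c.gd i).bs.getD m ([], [])).1 ++ c.src i W) * (gh i)⁻¹ =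
          e.ι (val u (slotForm ((c.gd i).base + m))) * P x ((c.gd i).bs.getD m ([], [])).2 *
            ((c.items i W).map fun p => e.ι (val u p.1) * P x p.2).prod
        rw [hs, ← e.vec_spec hπ, ← ih (fun n hn => hW n (List.mem_cons_of_mem _ hn)), P_append]
        group
    have h2 : (c.items i W).flatMap Prod.snd = c.img i W := by
      simp only [items, img, List.flatMap_map]
    rw [h1, R₁.lift, h2, val_xor, e.ι_add, mul_assoc]
    exact congrArg _ (R₁.collect _ _)
  have hzero : ∀ r ∈ c.rows, dot u r = 0 := by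
    intro r hr
    rw [← hc.rows_eq, allRows, List.mem_flatMap] at hr
    obtain ⟨X, hX, hr⟩ := hr
    obtain ⟨j, hj, rfl⟩ := List.mem_map.1 hr
    suffices val u X = 0 from congrFun this ⟨j, List.mem_range.1 hj⟩
    rcases List.mem_append.1 hX with hX | hX
    · obtain ⟨⟨k, a, b⟩, ht, rfl⟩ := List.mem_map.1 hX
      have hok := hc.eqA_ok _ ht
      simp only [okA, Bool.and_eq_true, decide_eq_true_eq, beq_iff_eq] at hok
      have e1 : P x [k, a, b] = _ := R₁.collect fuel [k, a, b]
      have e2 : P x [k, a, b] = e.ι (val u (appM (c.M k) (slotForm (pslot a b)) ^^^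
          (c.coll (k :: c.rel a b)).1)) * P x (c.coll (k :: c.rel a b)).2 := by
        rw [val_xor, e.ι_add, mul_assoc]
        show _ = e.ι _ * (e.ι (val u (collect c.M c.rel fuel _).1) * P x (collect c.M c.rel fuel _).2)
        rw [← R₁.collect, P_cons, P_cons, P_cons, P_nil, mul_one, R₁.rel a b hok.1, P_cons,
          ← mul_assoc, R₁.conj, val_appM, mul_assoc]
      have := e.cancel ((e1.symm.trans e2).trans (by rw [← hok.2]; rfl))
      rw [formA, Nat.xor_assoc, val_xor, ← this]
      exact CharTwo.add_self_eq_zero _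
    · obtain ⟨⟨i, W₁, W₂⟩, ht, rfl⟩ := List.mem_map.1 hX
      have hok := hc.eqB_ok _ ht
      simp only [okB, Bool.and_eq_true, beq_iff_eq, List.all_eq_true, Nat.blt_eq, List.mem_append] at hok
      obtain ⟨⟨⟨hi, hW⟩, hsrc⟩, himg⟩ := hok
      have b1 := hB i hi W₁ fun m hm => hW m (Or.inl hm)
      have b2 := hB i hi W₂ fun m hm => hW m (Or.inr hm)
      have s1 : P x (c.src i W₁) = e.ι (val u (c.coll (c.src i W₁)).1 + val u (c.coll (c.src i W₂)).1) *
          P x (c.src i W₂) := by
        rw [R₁.collect fuel (c.src i W₁), R₁.collect fuel (c.src i W₂)]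
        show _ * P x (c.coll (c.src i W₁)).2 = _ * (_ * P x (c.coll (c.src i W₂)).2)
        rw [hsrc, ← mul_assoc, ← e.ι_add, add_assoc]
        show _ = e.ι (val u (c.coll (c.src i W₁)).1 + (val u (c.coll (c.src i W₂)).1 +
          val u (c.coll (c.src i W₂)).1)) * _
        rw [CharTwo.add_self_eq_zero, add_zero]
        rfl
      rw [s1, ← mul_assoc (gh i), e.conj, hg, hc.actg i hi, mul_assoc (e.ι _) (gh i),
        mul_assoc (e.ι _) (gh i * _), b2, himg, ← mul_assoc, ← e.ι_add] at b1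
      have := e.cancel b1
      rw [← val_xor, ← val_appM] at this
      rw [formB, val_xor, val_xor, ← this]
      have h4 : ∀ p q : V, p + q + p + q = 0 := fun p q => by
        rw [add_right_comm p q p, CharTwo.add_self_eq_zero p, zero_add, CharTwo.add_self_eq_zero]
      exact h4 _ _
  refine ⟨dot u c.bm, ⟨⟨fun a => e.ι (val u (c.lam a)) * x a, fun a => by
    rw [map_mul, e.π_ι, one_mul, hx], ⟨e.ι_add, fun a v => ?_, fun a b hab => ?_⟩⟩⟩⟩
  · rw [mul_assoc, R₁.conj, ← mul_assoc, ← mul_assoc, ← e.ι_add, ← e.ι_add, add_comm]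
  · have hw : ∀ w : List (Fin 7), P (fun a => e.ι (val u (c.lam a)) * x a) w =
        e.ι (val u (lift c.M (w.map fun t => (c.lam t, [t])))) * P x w := by
      intro w
      have := R₁.lift (w.map fun t => (c.lam t, [t]))
      rw [List.flatMap_map, List.flatMap_singleton', List.map_map] at this
      rw [← this, P]
      simp [Function.comp_def, P]
    have hv : val (c.uc (dot u c.bm)) (slotForm (pslot a b)) = val u (c.target a b) := by
      rw [val_slotForm _ (by have := pslot_lt a b hab; simp only [wd]; omega)]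
      funext j
      have h := List.all_eq_true.1 (hc.comb_ok a b hab) j (List.mem_finRange j)
      rw [Nat.beq_eq] at h
      have h' := congrArg (dot u) h
      rw [mem_dot_zero c.rows hzero, dot_xor, CharTwo.add_eq_zero] at h'
      show _ = dot u (row (c.target a b) j)
      rw [h']
      show dot u c.bm * bz _ = _
      cases c.v0.testBit (11 * pslot a b + j) <;> simp [bz, dot_zero]
    rw [hv, hw]
    show e.ι (val u (c.lam a)) * x a * (e.ι (val u (c.lam b)) * x b) = _
    rw [mul_assoc, ← mul_assoc (x a), R₁.conj, mul_assoc (e.ι _) (x a), R₁.rel a b hab, ← val_appM]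
    simp only [← mul_assoc, ← e.ι_add, ← val_xor, target]
    congr 3
    simp [Nat.xor_assoc]

/-- constant of the multiplication of normal forms -/
def Cst (c : Cert) (u : ℕ → ZMod 2) : ℕ → List (Fin 7) → V
  | _, [] => 0
  | k, j :: w => val u (c.coll (nfw k ++ [j])).1 + Cst c u (c.next k j) w

/-- index of a product of normal forms -/
def nextW (c : Cert) : ℕ → List (Fin 7) → ℕ
  | k, [] => k
  | k, j :: w => nextW c (c.next k j) w

include hc in
theorem next_spec {k : ℕ} (hk : k < 128) (j : Fin 7) :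
    c.next k j < 128 ∧ (c.coll (nfw k ++ [j])).2 = nfw (c.next k j) := by
  have h := List.all_eq_true.1 (hc.next_ok k hk) j (List.mem_finRange j)
  simpa [Nat.blt_eq] using h

include hc in
theorem nextW_lt : ∀ {k : ℕ}, k < 128 → ∀ w, c.nextW k w < 128 := by
  intro k hk w
  induction w generalizing k with
  | nil => exact hk
  | cons j w ih => exact ih (next_spec hc hk j).1

theorem Lifts.mul_nfw {β : ZMod 2} (L : Lifts c e β) (hc : c.Valid 𝒜) :
    ∀ (w : List (Fin 7)) {k : ℕ}, k < 128 →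
      P L.y (nfw k) * P L.y w = e.ι (c.Cst (c.uc β) k w) * P L.y (nfw (c.nextW k w))
  | [], k, _ => by simp [Cst, nextW, P_nil, e.ι_zero]
  | j :: w, k, hk => by
    obtain ⟨h1, h2⟩ := next_spec hc hk j
    have h : P L.y (nfw k) * L.y j =
        e.ι (val (c.uc β) (c.coll (nfw k ++ [j])).1) * P L.y (nfw (c.next k j)) := by
      rw [← h2]
      exact (by simp [P] : P L.y (nfw k) * L.y j = P L.y (nfw k ++ [j])).trans (L.rules.collect _ _)
    rw [P_cons, ← mul_assoc, h, mul_assoc, L.mul_nfw hc w h1, ← mul_assoc, ← e.ι_add]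
    rfl

end Cert

end CfsgLib.KnownB.M23Ext
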