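import Cfsg.Agent.Lib.KnownB.M23Ext.Data

/-!
The code and cocode modules of `M₂₃` satisfy their certificates.
-/

set_option autoImplicit false
set_option maxRecDepth 100000

namespace CfsgLib.KnownB.M23Ext

open Cfsg CfsgLib.Spor CfsgLib.KnownB

theorem appV_add : ∀ (M : Mat) (v w : V), appV M (v + w) = appV M v + appV M w
  | [], _, _ => (add_zero _).symm
  | p :: l, v, w => by
    simp only [appV, appV_add l, Pi.add_apply, Pi.single_add]
    abel

theorem eq_appV {f : V → V} (hf : ∀ v w, f (v + w) = f v + f w) (M : Mat)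
    (h : ∀ i, f (M23Cocode.ev i) = appV M (M23Cocode.ev i)) (v : V) : f v = appV M v := by
  funext r
  rw [M23Cocode.additive_expand (f := fun v => f v r) (fun a b => congrFun (hf a b) r) v,
    M23Cocode.additive_expand (f := fun v => appV M v r) (fun a b => congrFun (appV_add M a b) r) v]
  exact Finset.sum_congr rfl fun i _ => by rw [h]

theorem act_ev_rep {π : G23} {a : ℕ} (h : Rep (π : Equiv.Perm GolayPt) a) (i : Fin 11) :
    M23Cocode.act π (M23Cocode.ev i) =
      fun k : Fin 11 => bz ((actP a (M23Cocode.cmask.getD i 0)).testBit (M23Cocode.piv.getD k 0)) := by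
  funext k
  show (M23Cocode.emb (M23Cocode.ev i)) ((π : Equiv.Perm GolayPt)⁻¹ (pt (M23Cocode.piv.getD k 0))) = _
  rw [M23Cocode.emb_ev, M23Cocode.cw, word, bz]
  have h2 : ∀ p : GolayPt, (actP a (M23Cocode.cmask.getD i 0)).testBit (idx p) =
      (M23Cocode.cmask.getD i 0).testBit (idx ((π : Equiv.Perm GolayPt)⁻¹ p)) := by
    intro p
    have := Finset.ext_iff.1 (h.toSet_actP (M23Cocode.cmask.getD i 0)) p
    rw [mem_toSet, ← Finset.inv_smul_mem_iff, mem_toSet, Equiv.Perm.smul_def] at this
    exact Bool.eq_iff_iff.2 this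
  have h3 := h2 (pt (M23Cocode.piv.getD k 0))
  rw [idx_pt (by have := M23Cocode.piv_lt k; omega)] at h3
  rw [h3]

/-- the code module -/
def codeAct : Act where
  A π v := M23Cocode.act π v
  add π := M23Cocode.act_add π
  mul := M23Cocode.act_mul
  one v := by rw [OneMemClass.coe_one]; exact M23Cocode.act_one v

/-- the dual of the code module -/
def cocodeAct : Act where
  A π f := fun i => ∑ k, f k * M23Cocode.act ((π⁻¹ : G23) : Equiv.Perm GolayPt) (M23Cocode.ev i) k
  add π f f' := by funext i; simp only [Pi.add_apply, add_mul, Finset.sum_add_distrib]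
  mul π σ f := by
    funext i
    rw [mul_inv_rev]
    show ∑ k, f k * _ = ∑ j, (∑ k, f k * _) * M23Cocode.act ((π⁻¹ : G23) : Equiv.Perm GolayPt) (M23Cocode.ev i) j
    simp only [Finset.sum_mul]
    rw [Finset.sum_comm]
    refine Finset.sum_congr rfl fun k _ => ?_
    rw [M23Cocode.act_mul, M23Cocode.additive_expand (f := fun v => M23Cocode.act ((σ⁻¹ : G23) : Equiv.Perm GolayPt) v k)
      (fun a b => congrFun (M23Cocode.act_add _ a b) k), Finset.mul_sum]
    exact Finset.sum_congr rfl fun j _ => by ring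
  one f := by
    funext i
    rw [inv_one, OneMemClass.coe_one, M23Cocode.act_one]
    simp [M23Cocode.ev, Pi.single_apply]

def chkCode (a : ℕ) (M : Mat) : Bool :=
  okP a && decide (∀ i k : Fin 11,
    bz ((actP a (M23Cocode.cmask.getD i 0)).testBit (M23Cocode.piv.getD k 0)) = appV M (M23Cocode.ev i) k)

theorem code_act_of_chk {a : ℕ} {M : Mat} (h : chkCode a M = true) (v : V) :
    codeAct.A (el a) v = appV M v := by
  simp only [chkCode, Bool.and_eq_true, decide_eq_true_eq] at h
  refine eq_appV (M23Cocode.act_add _) M (fun i => ?_) v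
  rw [act_ev_rep (rep_el h.1) i]
  exact funext (h.2 i)

def chkCocode (a : ℕ) (M : Mat) : Bool :=
  okP a && okP (Cert.inv a) && Nat.beq (compP a (Cert.inv a)) (packL (List.range 24)) && decide (∀ i k : Fin 11,
    bz ((actP (Cert.inv a) (M23Cocode.cmask.getD k 0)).testBit (M23Cocode.piv.getD i 0)) =
      appV M (M23Cocode.ev i) k)

theorem cocode_act_of_chk {a : ℕ} {M : Mat} (h : chkCocode a M = true) (v : V) :
    cocodeAct.A (el a) v = appV M v := by
  simp only [chkCocode, Bool.and_eq_true, decide_eq_true_eq, Nat.beq_eq] at h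
  obtain ⟨⟨⟨h1, h2⟩, h3⟩, h4⟩ := h
  have hr := (rep_el h1).mul (rep_el h2)
  rw [h3] at hr
  have hinv : (el a)⁻¹ = el (Cert.inv a) := inv_eq_of_mul_eq_one_right (Subtype.ext (hr.inj rep_one))
  refine eq_appV (cocodeAct.add _) M (fun i => ?_) v
  funext k
  show ∑ j, M23Cocode.ev i j * _ = _
  rw [hinv, act_ev_rep (rep_el h2) k]
  rw [Finset.sum_eq_single i (fun j _ hj => by simp [M23Cocode.ev, hj]) (by simp)]
  dsimp only
  rw [h4 i k]
  simp [M23Cocode.ev]

def chkRest (c : Cert) (chk : ℕ → Mat → Bool) : Bool :=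
  ((List.finRange 7).all fun a => chk (c.σ a) (c.M a)) &&
  ((List.range c.gs.length).all fun i => chk (c.gd i).g (c.gd i).Mg &&
    (List.range (c.gd i).bs.length).all fun m =>
      Nat.beq (compP (c.gd i).g (c.pw ((c.gd i).bs.getD m ([], [])).1))
        (compP (c.pw ((c.gd i).bs.getD m ([], [])).2) (c.gd i).g) &&
      Nat.ble (11 * ((c.gd i).base + m) + 11) wd && c.desc.getD ((c.gd i).base + m) (2, 0, 0) == (1, i, m)) &&
  ((List.finRange 7).all fun a => (List.finRange 7).all fun b => decide (a < b) ||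
    (Nat.beq (compP (c.σ a) (c.σ b)) (c.pw (c.rel a b)) &&
      c.desc.getD (pslot a b) (2, 0, 0) == (0, (a : ℕ), (b : ℕ))))

theorem valid_of_chk {c : Cert} {𝒜 : Act} {chk : ℕ → Mat → Bool}
    (hchk : ∀ a M, chk a M = true → okP a = true ∧ ∀ v, 𝒜.A (el a) v = appV M v)
    (h1 : chkRest c chk = true) (h2 : c.eqA.all c.okA = true) (h3 : c.eqB.all c.okB = true)
    (h4 : c.allRows = c.rows)
    (h5 : ((List.finRange 7).all fun a => (List.finRange 7).all fun b => decide (a < b) || c.okComb a b) = true)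
    (h6 : (List.range 128).all c.okNext = true)
    (h7 : ((List.range 128).map fun k => (List.range 24).map fun i => getP (c.pw (Cert.nfw k)) i).Nodup) :
    c.Valid 𝒜 := by
  simp only [chkRest, Bool.and_eq_true, List.all_eq_true, List.mem_finRange, forall_const, List.mem_range,
    Nat.beq_eq, Nat.ble_eq, beq_iff_eq, Bool.or_eq_true, decide_eq_true_eq] at h1
  obtain ⟨⟨hs, hg⟩, hr⟩ := h1
  refine ⟨fun a => (hchk _ _ (hs a)).1, fun a b hab => ((hr a b).resolve_left (not_lt.2 hab)).1,
    fun a => (hchk _ _ (hs a)).2, fun i hi => (hchk _ _ (hg i hi).1).1, fun i hi => (hchk _ _ (hg i hi).1).2,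
    fun i hi m hm => ((hg i hi).2 m hm).1.1, fun a b hab => ((hr a b).resolve_left (not_lt.2 hab)).2,
    fun i hi m hm => ⟨((hg i hi).2 m hm).1.2, ((hg i hi).2 m hm).2⟩, List.all_eq_true.1 h2,
    List.all_eq_true.1 h3, h4, fun a b hab => ?_, fun k hk => List.all_eq_true.1 h6 k (List.mem_range.2 hk), h7⟩
  have := List.all_eq_true.1 (List.all_eq_true.1 h5 a (List.mem_finRange a)) b (List.mem_finRange b)
  simpa [not_lt.2 hab] using this

theorem code_valid : codeCert.Valid codeAct :=
  valid_of_chk (chk := chkCode)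
    (fun a M h => ⟨by simp only [chkCode, Bool.and_eq_true] at h; exact h.1, code_act_of_chk h⟩)
    (by decide +kernel) (by decide +kernel) (by decide +kernel) (by decide +kernel) (by decide +kernel)
    (by decide +kernel) (by decide +kernel)

theorem cocode_valid : cocodeCert.Valid cocodeAct :=
  valid_of_chk (chk := chkCocode)
    (fun a M h => ⟨by simp only [chkCocode, Bool.and_eq_true] at h; exact h.1.1.1, cocode_act_of_chk h⟩)
    (by decide +kernel) (by decide +kernel) (by decide +kernel) (by decide +kernel) (by decide +kernel)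
    (by decide +kernel) (by decide +kernel)

theorem code_v0 : codeCert.v0 = 0 := rfl

/-- the word with given coordinates -/
def wordOf (f : V) : GolayPt → ZMod 2 :=
  ∑ j : Fin 11, (Pi.single (pt (M23Cocode.piv.getD j 0)) (f j) : GolayPt → ZMod 2)

theorem pair_wordOf (f v : V) : M23Cocode.pair (wordOf f) v = ∑ j, f j * v j := by
  have h1 : M23Cocode.pair (wordOf f) v = ∑ j : Fin 11, f j * M23Cocode.κ (M23Cocode.emb v) j := by
    simp only [M23Cocode.pair, wordOf, Finset.sum_apply, Finset.sum_mul]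
    rw [Finset.sum_comm]
    refine Finset.sum_congr rfl fun j _ => ?_
    simp [Pi.single_apply, M23Cocode.κ]
  rw [h1, M23Cocode.κ_emb]

theorem pair_wordOf_ev (f : V) (i : Fin 11) : M23Cocode.pair (wordOf f) (M23Cocode.ev i) = f i := by
  rw [pair_wordOf, Finset.sum_eq_single i (fun j _ hj => by simp [M23Cocode.ev, hj]) (by simp)]
  simp [M23Cocode.ev]

theorem cocodeExt {E : Type*} [Group E] (N : Subgroup E) [N.Normal]
    (φ : E ⧸ N ≃* G23) (θ : (GolayPt → ZMod 2) →+ Additive ↥N)
    (hsurj : Function.Surjective θ)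
    (hker : ∀ w, θ w = 0 ↔ (w ∈ golayCode ∨ w + Pi.single none 1 ∈ golayCode))
    (hθ : ∀ (g : E) (w : GolayPt → ZMod 2),
      ((θ (w ∘ ⇑(((φ (QuotientGroup.mk g) : G23) : Equiv.Perm GolayPt)⁻¹))).toMul : E)
        = g * ((θ w).toMul : E) * g⁻¹) :
    ∃ e : Ext cocodeAct E, e.π.ker = N := by
  have hpair : ∀ w w', (∀ i, M23Cocode.pair w (M23Cocode.ev i) = M23Cocode.pair w' (M23Cocode.ev i)) → θ w = θ w' := by
    intro w w' h
    rw [← sub_eq_zero, ← map_sub, hker, ← M23Cocode.thetaHom_eq_zero]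
    refine congrArg Additive.ofMul (Subtype.ext (M23Cocode.E.ext rfl (funext fun v => ?_)))
    show M23Cocode.pair (w - w') v = 0
    have hadd : ∀ a b, M23Cocode.pair (w - w') (a + b) =
        M23Cocode.pair (w - w') a + M23Cocode.pair (w - w') b := fun a b => by
      simp [M23Cocode.pair, M23Cocode.emb_add, mul_add, Finset.sum_add_distrib]
    rw [M23Cocode.additive_expand hadd v]
    refine Finset.sum_eq_zero fun i _ => ?_
    rw [show M23Cocode.pair (w - w') (M23Cocode.ev i) = 0 by
      rw [← sub_eq_zero.2 (h i)]; simp [M23Cocode.pair, sub_mul, Finset.sum_sub_distrib], mul_zero]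
  let π : E →* G23 := φ.toMonoidHom.comp (QuotientGroup.mk' N)
  have hπ : ∀ f, π f = 1 ↔ f ∈ N := fun f => by
    show φ (QuotientGroup.mk f) = 1 ↔ _
    rw [MulEquiv.map_eq_one_iff, QuotientGroup.eq_one_iff]
  refine ⟨⟨π, φ.surjective.comp (QuotientGroup.mk'_surjective N), fun f => ((θ (wordOf f)).toMul : E),
    fun v w => ?_, fun v w h => ?_, fun f => ?_, fun g v => ?_⟩, Subgroup.ext hπ⟩
  · rw [← Subgroup.coe_mul, ← toMul_add, ← map_add]
    refine congrArg (fun a : Additive ↥N => (a.toMul : E)) (hpair _ _ fun i => ?_)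
    rw [pair_wordOf_ev]
    show _ = M23Cocode.pair (wordOf v + wordOf w) _
    rw [Pi.add_apply, ← pair_wordOf_ev v i, ← pair_wordOf_ev w i]
    simp [M23Cocode.pair, add_mul, Finset.sum_add_distrib]
  · have h' : θ (wordOf v - wordOf w) = 0 := by
      rw [map_sub, sub_eq_zero]; exact Additive.toMul.injective (Subtype.ext h)
    rw [hker, ← M23Cocode.thetaHom_eq_zero] at h'
    funext i
    have := congrArg (fun z : Additive ↥M23Cocode.proj.ker => (z.toMul : M23Cocode.E).f (M23Cocode.ev i)) h'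
    change M23Cocode.pair (wordOf v - wordOf w) (M23Cocode.ev i) = 0 at this
    rw [← sub_eq_zero, ← this, ← pair_wordOf_ev v i, ← pair_wordOf_ev w i]
    simp [M23Cocode.pair, sub_mul, Finset.sum_sub_distrib]
  · rw [hπ]
    refine ⟨fun hf => ?_, by rintro ⟨v, rfl⟩; exact SetLike.coe_mem _⟩
    obtain ⟨w, hw⟩ := hsurj (Additive.ofMul ⟨f, hf⟩)
    refine ⟨fun i => M23Cocode.pair w (M23Cocode.ev i), ?_⟩
    rw [hpair (wordOf _) w fun i => pair_wordOf_ev _ i, hw]
    rfl
  · show g * _ = _ * g
    rw [← mul_inv_eq_iff_eq_mul, ← hθ]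
    refine congrArg (fun a : Additive ↥N => (a.toMul : E)) (hpair _ _ fun i => ?_)
    rw [pair_wordOf_ev]
    show M23Cocode.pair (wordOf v ∘ ⇑((π g : G23) : Equiv.Perm GolayPt)⁻¹) _ = _
    have h := pair_wordOf v (M23Cocode.act (((π g)⁻¹ : G23) : Equiv.Perm GolayPt) (M23Cocode.ev i))
    refine Eq.trans ?_ h
    simp only [M23Cocode.pair, Function.comp_apply]
    rw [← Equiv.sum_comp ((π g : G23) : Equiv.Perm GolayPt)]
    refine Finset.sum_congr rfl fun p _ => ?_
    rw [M23Cocode.emb_act]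
    simp

end CfsgLib.KnownB.M23Ext
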