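import Cfsg.Agent.Lib.KnownB.M23Ext.Ext

/-!
Sections adapted to the Sylow 2-subgroup: a certified extension with the lifts of the generators
satisfying given relations is determined up to equivalence.
-/

set_option autoImplicit false

namespace CfsgLib.KnownB.M23Ext

open Cfsg CfsgLib.Spor

namespace Cert

variable {c : Cert} {𝒜 : Act} (hc : c.Valid 𝒜)

/-- element of a normal form -/
noncomputable def sp (c : Cert) (k : ℕ) : G23 := P (fun a => el (c.σ a)) (nfw k)

include hc in
theorem sp_inj {k l : ℕ} (hk : k < 128) (hl : l < 128) (h : sp c k = sp c l) : k = l := by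
  refine List.inj_on_of_nodup_map hc.nodup (List.mem_range.2 hk) (List.mem_range.2 hl) ?_
  rw [sp, sp] at h
  have h1 := rep_pw hc (nfw k)
  have h2 := rep_pw hc (nfw l)
  rw [h] at h1
  refine List.map_congr_left fun i hi => ?_
  rw [h1 i (List.mem_range.1 hi), h2 i (List.mem_range.1 hi)]

include hc in
theorem sp_mul {k : ℕ} (hk : k < 128) : ∀ (w : List (Fin 7)),
    sp c k * P (fun a => el (c.σ a)) w = sp c (c.nextW k w) := by
  intro w
  induction w generalizing k with
  | nil => simp [nextW, P_nil]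
  | cons j w ih =>
    obtain ⟨h1, h2⟩ := next_spec hc hk j
    rw [P_cons, ← mul_assoc]
    have h : sp c k * el (c.σ j) = sp c (c.next k j) := by
      let x : Fin 7 → G23 := fun a => el (c.σ a)
      have R : Rules c.M c.rel x (fun _ => (1 : G23)) (fun _ => 0) := by
        refine ⟨fun _ _ => (one_mul 1).symm, fun a v => by simp, fun a b hab => ?_⟩
        rw [one_mul]
        refine Subtype.ext (((rep_el (hc.okσ a)).mul (rep_el (hc.okσ b))).inj ?_)
        rw [hc.relσ a b hab]
        exact rep_pw hc _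
      have := R.collect fuel (nfw k ++ [j])
      rw [one_mul, P_append] at this
      rw [sp, sp, ← h2, show el (c.σ j) = P x [j] by simp [P, x]]
      exact this
    rw [h]
    exact ih h1

include hc in
theorem sp_zero : sp c 0 = 1 := by
  rw [sp, show nfw 0 = [] by decide]; rfl

/-- the Sylow subgroup -/
noncomputable def SQ (hc : c.Valid 𝒜) : Subgroup G23 :=
  let S : Submonoid G23 :=
    { carrier := {g | ∃ k < 128, g = sp c k}
      one_mem' := ⟨0, by norm_num, (sp_zero hc).symm⟩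
      mul_mem' := by
        rintro _ _ ⟨k, hk, rfl⟩ ⟨l, hl, rfl⟩
        exact ⟨_, nextW_lt hc hk _, sp_mul hc hk _⟩ }
  { S with
    inv_mem' := by
      intro g hg
      have h : g⁻¹ = g ^ (orderOf g - 1) := by
        rw [inv_eq_iff_mul_eq_one, ← pow_succ', Nat.sub_add_cancel (orderOf_pos g), pow_orderOf_eq_one]
      rw [h]
      exact S.pow_mem hg _ }

theorem mem_SQ {g : G23} : g ∈ SQ hc ↔ ∃ k < 128, g = sp c k := Iff.rfl

theorem natCard_SQ : Nat.card (SQ hc) = 128 := by
  rw [← Nat.card_fin 128]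
  symm
  refine Nat.card_congr (Equiv.ofBijective (fun k : Fin 128 => (⟨sp c k, k, k.2, rfl⟩ : SQ hc)) ⟨?_, ?_⟩)
  · intro k l h
    exact Fin.ext (sp_inj hc k.2 l.2 (congrArg Subtype.val h))
  · rintro ⟨g, k, hk, rfl⟩
    exact ⟨⟨k, hk⟩, rfl⟩

theorem odd_index : Odd (SQ hc).index := by
  have h := (SQ hc).card_mul_index
  rw [natCard_SQ, CfsgLib.MathieuOut.natCard_M23] at h
  have : (SQ hc).index = 79695 := by omega
  rw [this]; decide

/-- representative of a right coset, trivial on the subgroup -/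
noncomputable def rep (hc : c.Valid 𝒜) (z : G23) : G23 :=
  letI := Classical.propDecidable (z ∈ SQ hc)
  if z ∈ SQ hc then 1 else ((z⁻¹ : G23) : G23 ⧸ SQ hc).out⁻¹

theorem mul_rep_inv_mem (z : G23) : z * (rep hc z)⁻¹ ∈ SQ hc := by
  rw [rep]
  split_ifs with h
  · simpa using h
  · rw [inv_inv]
    obtain ⟨q, hq⟩ := QuotientGroup.mk_out_eq_mul (SQ hc) z⁻¹
    rw [hq, mul_inv_cancel_left]
    exact q.2

theorem rep_mul {q : G23} (hq : q ∈ SQ hc) (z : G23) : rep hc (q * z) = rep hc z := by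
  by_cases h : z ∈ SQ hc
  · rw [rep, rep, if_pos h, if_pos ((SQ hc).mul_mem hq h)]
  · rw [rep, rep, if_neg h, if_neg fun h' => h (((SQ hc).mul_mem_cancel_left hq).1 h')]
    congr 2
    rw [QuotientGroup.eq, mul_inv_rev]
    simpa using hq

noncomputable def kz (hc : c.Valid 𝒜) (z : G23) : ℕ := ((mem_SQ hc).1 (mul_rep_inv_mem hc z)).choose

theorem kz_spec (z : G23) : kz hc z < 128 ∧ z * (rep hc z)⁻¹ = sp c (kz hc z) :=
  ((mem_SQ hc).1 (mul_rep_inv_mem hc z)).choose_spec

theorem kz_mul {k : ℕ} (hk : k < 128) (z : G23) :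
    kz hc (sp c k * z) = c.nextW k (nfw (kz hc z)) := by
  obtain ⟨h1, h2⟩ := kz_spec hc (sp c k * z)
  refine sp_inj hc h1 (nextW_lt hc hk _) ?_
  rw [← h2, ← sp_mul hc hk, rep_mul hc ⟨k, hk, rfl⟩, mul_assoc, (kz_spec hc z).2]
  rfl

theorem kz_of_mem {k : ℕ} (hk : k < 128) : kz hc (sp c k) = k := by
  obtain ⟨h1, h2⟩ := kz_spec hc (sp c k)
  refine sp_inj hc h1 hk ?_
  rw [← h2, rep, if_pos ((mem_SQ hc).2 ⟨k, hk, rfl⟩), inv_one, mul_one]

variable {F : Type*} [Group F] {e : Ext 𝒜 F} {β : ZMod 2} (L : Lifts c e β)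

noncomputable def liftRep (e : Ext 𝒜 F) (g : G23) : F :=
  letI := Classical.propDecidable (g = 1)
  if g = 1 then 1 else (e.surj g).choose

theorem π_liftRep (g : G23) : e.π (liftRep e g) = g := by
  rw [liftRep]
  split_ifs with h1
  · rw [map_one, h1]
  · exact (e.surj g).choose_spec

noncomputable def Lifts.sec (L : Lifts c e β) (hc : c.Valid 𝒜) (z : G23) : F :=
  P L.y (nfw (kz hc z)) * liftRep e (rep hc z)

theorem Lifts.π_sec (z : G23) : e.π (L.sec hc z) = z := by
  rw [Lifts.sec, map_mul, π_P hc e L.y L.π_y]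
  have h := (kz_spec hc z).2
  rw [sp] at h
  rw [← h, π_liftRep, inv_mul_cancel_right]

noncomputable def Lifts.cocyc (L : Lifts c e β) (hc : c.Valid 𝒜) (y z : G23) : V :=
  e.vec (L.sec hc y * L.sec hc z) (L.sec hc (y * z))

theorem Lifts.cocyc_spec (y z : G23) :
    L.sec hc y * L.sec hc z = e.ι (L.cocyc hc y z) * L.sec hc (y * z) :=
  e.vec_spec (by rw [map_mul, L.π_sec, L.π_sec, L.π_sec])

theorem Lifts.cocycle (x y z : G23) :
    L.cocyc hc x y + L.cocyc hc (x * y) z = 𝒜.A x (L.cocyc hc y z) + L.cocyc hc x (y * z) := by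
  have h1 : L.sec hc x * L.sec hc y * L.sec hc z =
      e.ι (L.cocyc hc x y + L.cocyc hc (x * y) z) * L.sec hc (x * y * z) := by
    rw [L.cocyc_spec hc x y, mul_assoc, L.cocyc_spec hc (x * y) z, ← mul_assoc, ← e.ι_add]
  have h2 : L.sec hc x * L.sec hc y * L.sec hc z =
      e.ι (𝒜.A x (L.cocyc hc y z) + L.cocyc hc x (y * z)) * L.sec hc (x * y * z) := by
    rw [mul_assoc, L.cocyc_spec hc y z, ← mul_assoc, e.conj, L.π_sec, mul_assoc, L.cocyc_spec hc x (y * z),
      ← mul_assoc, ← e.ι_add, mul_assoc x]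
  exact e.cancel (h1.symm.trans h2)

theorem Lifts.cocyc_left {k : ℕ} (hk : k < 128) (z : G23) :
    L.cocyc hc (sp c k) z = c.Cst (c.uc β) k (nfw (kz hc z)) := by
  refine e.cancel (f := L.sec hc (sp c k * z)) ?_
  rw [← L.cocyc_spec, Lifts.sec, Lifts.sec, Lifts.sec, kz_of_mem hc hk, kz_mul hc hk,
    rep_mul hc ⟨k, hk, rfl⟩]
  have h1 : rep hc (sp c k) = 1 := by rw [rep, if_pos ((mem_SQ hc).2 ⟨k, hk, rfl⟩)]
  rw [h1, show liftRep e 1 = 1 by rw [liftRep, if_pos rfl], mul_one, ← mul_assoc, L.mul_nfw _ hc _ hk,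
    mul_assoc]

theorem Lifts.exists_form (f : F) : ∃ v, f = e.ι v * L.sec hc (e.π f) :=
  e.exists_vec (L.π_sec hc _).symm

/-- the module structure -/
@[reducible] noncomputable def dma (𝒜 : Act) : DistribMulAction G23 V where
  smul := 𝒜.A
  one_smul := 𝒜.one
  mul_smul := 𝒜.mul
  smul_zero g := by
    have := 𝒜.add g 0 0
    rw [add_zero] at this
    exact left_eq_add.1 this
  smul_add := 𝒜.add

include hc in
theorem Lifts.splits (L : Lifts c e β) (hu : ∀ t, c.uc β t = 0) :
    ∃ H : Subgroup F, H ⊓ e.π.ker = ⊥ ∧ H ⊔ e.π.ker = ⊤ := by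
  letI := dma 𝒜
  have hC : ∀ (w : List (Fin 7)) k, c.Cst (c.uc β) k w = 0 := by
    intro w
    induction w with
    | nil => exact fun _ => rfl
    | cons j w ih =>
      intro k
      rw [Cst, ih, add_zero]
      funext r
      simp only [val, dot, hu, mul_zero, Finset.sum_const_zero, Pi.zero_apply]
  obtain ⟨a, ha⟩ := exists_cobound (V := V) (fun v => CharTwo.add_self_eq_zero v) (SQ hc) (odd_index hc) (L.cocyc hc)
    (L.cocycle hc) (fun q hq z => by
      obtain ⟨k, hk, rfl⟩ := hq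
      rw [L.cocyc_left hc hk, hC])
  let t : G23 →* F := MonoidHom.mk' (fun g => e.ι (a g) * L.sec hc g) fun g h => by
    rw [← mul_assoc, mul_assoc (e.ι (a g)) (L.sec hc g), e.conj, L.π_sec, ← mul_assoc, ← e.ι_add,
      mul_assoc (e.ι _) (L.sec hc g), L.cocyc_spec, ← mul_assoc, ← e.ι_add, ha]
    congr 2
    show a (g * h) = a g + g • a h + (a g + g • a h + a (g * h))
    rw [← add_assoc, CharTwo.add_self_eq_zero, zero_add]
  have ht : ∀ g, e.π (t g) = g := fun g => by
    show e.π (e.ι (a g) * L.sec hc g) = g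
    rw [map_mul, e.π_ι, one_mul, L.π_sec]
  refine ⟨t.range, ?_, ?_⟩
  · rw [Subgroup.eq_bot_iff_forall]
    rintro _ ⟨⟨g, rfl⟩, hg⟩
    have : e.π (t g) = 1 := hg
    rw [ht] at this
    rw [this, map_one]
  · rw [eq_top_iff]
    intro f _
    rw [show f = f * (t (e.π f))⁻¹ * t (e.π f) by rw [inv_mul_cancel_right]]
    refine Subgroup.mul_mem _ (Subgroup.mem_sup_right ?_) (Subgroup.mem_sup_left ⟨_, rfl⟩)
    show e.π _ = 1
    rw [map_mul, map_inv, ht, mul_inv_cancel]

include hc in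
theorem Lifts.equiv (L : Lifts c e β) {F' : Type*} [Group F'] {e' : Ext 𝒜 F'} (L' : Lifts c e' β) :
    Nonempty (F ≃* F') := by
  letI := dma 𝒜
  obtain ⟨a, ha⟩ := exists_cobound (V := V) (fun v => CharTwo.add_self_eq_zero v) (SQ hc) (odd_index hc)
    (fun y z => L.cocyc hc y z + L'.cocyc hc y z)
    (fun x y z => by
      show _ = 𝒜.A x (L.cocyc hc y z + L'.cocyc hc y z) + _
      rw [𝒜.add]
      rw [add_add_add_comm, L.cocycle hc, L'.cocycle hc, add_add_add_comm])
    (fun q hq z => by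
      obtain ⟨k, hk, rfl⟩ := hq
      show L.cocyc hc (sp c k) z + L'.cocyc hc (sp c k) z = 0
      rw [L.cocyc_left hc hk, L'.cocyc_left hc hk, CharTwo.add_self_eq_zero])
  let g : F → F' := fun f =>
    e'.ι (e.vec f (L.sec hc (e.π f)) + a (e.π f)) * L'.sec hc (e.π f)
  have hg : ∀ v x, g (e.ι v * L.sec hc x) = e'.ι (v + a x) * L'.sec hc x := by
    intro v x
    have hx : e.π (e.ι v * L.sec hc x) = x := by rw [map_mul, e.π_ι, one_mul, L.π_sec]
    simp only [g, hx]
    congr 3
    exact (e.cancel (e.vec_spec (hx.trans (L.π_sec hc x).symm))).symm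
  have hmul : ∀ f f', g (f * f') = g f * g f' := by
    intro f f'
    obtain ⟨v, hv⟩ := L.exists_form hc f
    obtain ⟨w, hw⟩ := L.exists_form hc f'
    generalize e.π f = y at hv
    generalize e.π f' = z at hw
    subst hv hw
    have hp : e.ι v * L.sec hc y * (e.ι w * L.sec hc z) =
        e.ι (v + y • w + L.cocyc hc y z) * L.sec hc (y * z) := by
      rw [← mul_assoc, mul_assoc (e.ι v) (L.sec hc y), e.conj, L.π_sec, ← mul_assoc, ← e.ι_add,
        mul_assoc (e.ι _) (L.sec hc y), L.cocyc_spec, ← mul_assoc, ← e.ι_add]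
      rfl
    rw [hp, hg, hg, hg, ← mul_assoc, mul_assoc (e'.ι _) (L'.sec hc y), e'.conj, L'.π_sec, ← mul_assoc,
      ← e'.ι_add, mul_assoc (e'.ι _) (L'.sec hc y), L'.cocyc_spec, ← mul_assoc, ← e'.ι_add]
    congr 2
    show _ = v + a y + y • (w + a z) + _
    have h := ha y z
    rw [smul_add]
    have two : ∀ p : V, p + p = 0 := fun p => CharTwo.add_self_eq_zero p
    have hL : L.cocyc hc y z = a y + y • a z + a (y * z) + L'.cocyc hc y z := by
      rw [← h, add_assoc, two, add_zero]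
    rw [hL]
    have : ∀ p q r s t o : V, p + q + (r + s + t + o) + t = p + r + (q + s) + o := fun p q r s t o => by
      rw [show p + q + (r + s + t + o) + t = p + r + (q + s) + o + (t + t) by abel, two, add_zero]
    exact this _ _ _ _ _ _
  refine ⟨MulEquiv.ofBijective (MonoidHom.mk' g hmul) ⟨?_, ?_⟩⟩
  · refine (injective_iff_map_eq_one _).2 fun f hf => ?_
    obtain ⟨v, hv⟩ := L.exists_form hc f
    generalize e.π f = y at hv
    subst hv
    change g _ = 1 at hf
    rw [hg] at hf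
    have hy : y = 1 := by
      have := congrArg e'.π hf
      rwa [map_mul, e'.π_ι, one_mul, L'.π_sec, map_one] at this
    subst hy
    have h1 : g 1 = 1 := by
      have := hmul 1 1
      rw [mul_one] at this
      exact left_eq_mul.1 this
    obtain ⟨w, hw⟩ := L.exists_form hc 1
    rw [map_one] at hw
    have h2 : g (e.ι w * L.sec hc 1) = e'.ι (v + a 1) * L'.sec hc 1 := by rw [← hw, h1, hf]
    rw [hg] at h2
    have := add_right_cancel (e'.cancel h2)
    rw [← this, ← hw]
  · intro f'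
    obtain ⟨v, hv⟩ := L'.exists_form hc f'
    refine ⟨e.ι (v + a (e'.π f')) * L.sec hc (e'.π f'), ?_⟩
    show g _ = _
    rw [hg, add_assoc, CharTwo.add_self_eq_zero, add_zero, ← hv]

end Cert

end CfsgLib.KnownB.M23Ext
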